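import Cfsg.Agent.H92.QS.StHom
import Cfsg.Agent.H540.E8C.Centre

/-!
# The subgroup `A₄ A₄` of `E₈(K)` (S5925, box A, helper934)

* `p1 K`, `p2 K` : `SL₅(K) →* E₈(K)` for the chains `(α₁, α₃, α₄, α₂)` and `(α₀, α₈, α₇, α₆)`;
* `p1_tv`, `p2_tv`, `coe_p1_tv`, `coe_p2_tv` : the values on transvections;
* `comm` : the images commute;
* `emb_p1`, `emb_p2`, `phi_p1`, `phi_p2` : field embeddings and Frobenius maps;
* `hom_ext` : homomorphisms from `SL_n` are determined by the transvections.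
-/

set_option autoImplicit false

namespace Cfsg.Agent.H934.E83

open Cfsg.Lie Cfsg.Agent.ChevalleyStructure.StBasic Cfsg.Agent.TitsThree.KExcRT Cfsg.Agent.AGraded
open Cfsg.Agent.ChevalleyStructure Cfsg.Agent.ChevalleyStructure.Elts Cfsg.Agent.ChevalleyStructure.RootVec
  Cfsg.Agent.KFacts.RgdChevCoord Cfsg.Agent.GpExc.Field Cfsg.Agent.BpExc.TowChev Cfsg.Agent.BpExc.FamUntw
  Cfsg.Agent.Nodes.RGDChev
open Matrix

universe u

/-! ### Tables -/

/-- the roots of the chain `(α₁, α₃, α₄, α₂)` -/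
def r1 : Fin 5 → Fin 5 → ℕ :=
  ![![0, 162, 163, 164, 169], ![77, 0, 135, 136, 147], ![76, 104, 0, 130, 142], ![75, 103, 109, 0, 141], ![70, 92, 97, 98, 0]]

/-- the signs of the chain `(α₁, α₃, α₄, α₂)` -/
def s1 : Fin 5 → Fin 5 → ℤ :=
  ![![1, 1, -1, 1, -1], ![1, 1, 1, -1, 1], ![-1, 1, 1, 1, 1], ![1, -1, 1, 1, 1], ![-1, 1, 1, 1, 1]]

/-- the roots of the chain `(α₀, α₈, α₇, α₆)` -/
def r2 : Fin 5 → Fin 5 → ℕ :=
  ![![0, 0, 1, 2, 3], ![239, 0, 120, 122, 125], ![238, 119, 0, 121, 124], ![237, 117, 118, 0, 123], ![236, 114, 115, 116, 0]]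

/-- the signs of the chain `(α₀, α₈, α₇, α₆)`: all equal to `1` -/
def s2 : Fin 5 → Fin 5 → ℤ := fun _ _ => 1

theorem tab1 : RTa chevE8 r1 ∧ RTb chevE8 r1 s1 ∧ RTc chevE8 r1 ∧ RTd s1 ∧ (∀ i j, s1 j i = s1 i j) ∧
    ∀ i j, i ≠ j → r1 j i = chevE8.neg (r1 i j) := by decide +kernel

theorem tab2 : RTa chevE8 r2 ∧ RTb chevE8 r2 s2 ∧ RTc chevE8 r2 ∧ RTd s2 ∧ (∀ i j, s2 j i = s2 i j) ∧
    ∀ i j, i ≠ j → r2 j i = chevE8.neg (r2 i j) := by decide +kernel

theorem tab12 : ∀ a b, a ≠ b → ∀ c d, c ≠ d → r2 c d ≠ r1 a b ∧ r2 c d ≠ chevE8.neg (r1 a b) ∧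
    chevE8.commTerms (r1 a b) (r2 c d) = [] := by decide +kernel

theorem hp8 : IsType chevE8 8 CoxeterMatrix.E₈ := Cfsg.Agent.Nodes.KindE.isType8

/-! ### The homomorphisms -/

section Hom

variable (K : Type u) [Field K]

theorem exists_p1 : ∃ φ : SpecialLinearGroup (Fin 5) K →* ↥(chevE8.group K), ∀ a b (hab : a ≠ b) c,
    (φ (SpecialLinearGroup.transvection hab c) : GL chevE8.Idx K) = xG hp8.inList (r1 a b) ((s1 a b : K) * c) := by
  obtain ⟨φ, hφ⟩ := Cfsg.Agent.H92.QS.exists_hom_St (K := K) tab1.1 tab1.2.1 tab1.2.2.1 tab1.2.2.2.1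
    (fun a b _ => tab1.2.2.2.2.1 a b) tab1.2.2.2.2.2
  refine ⟨(StTheta.theta hp8.inList K).comp φ, fun a b hab c => ?_⟩
  rw [MonoidHom.comp_apply, hφ, StTheta.coe_theta, StTheta.thetaGL_stGen]

theorem exists_p2 : ∃ φ : SpecialLinearGroup (Fin 5) K →* ↥(chevE8.group K), ∀ a b (hab : a ≠ b) c,
    (φ (SpecialLinearGroup.transvection hab c) : GL chevE8.Idx K) = xG hp8.inList (r2 a b) c := by
  obtain ⟨φ, hφ⟩ := Cfsg.Agent.H92.QS.exists_hom_St (K := K) tab2.1 tab2.2.1 tab2.2.2.1 tab2.2.2.2.1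
    (fun a b _ => tab2.2.2.2.2.1 a b) tab2.2.2.2.2.2
  refine ⟨(StTheta.theta hp8.inList K).comp φ, fun a b hab c => ?_⟩
  rw [MonoidHom.comp_apply, hφ, StTheta.coe_theta, StTheta.thetaGL_stGen]
  show xG _ _ (((1 : ℤ) : K) * c) = _
  rw [Int.cast_one, one_mul]

/-- the first `SL₅`: chain `(α₁, α₃, α₄, α₂)` -/
noncomputable def p1 : SpecialLinearGroup (Fin 5) K →* ↥(chevE8.group K) := (exists_p1 K).choose

/-- the second `SL₅`: chain `(α₀, α₈, α₇, α₆)` -/
noncomputable def p2 : SpecialLinearGroup (Fin 5) K →* ↥(chevE8.group K) := (exists_p2 K).choose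

variable {K}

theorem coe_p1_tv {a b : Fin 5} (hab : a ≠ b) (c : K) : (p1 K (SpecialLinearGroup.transvection hab c) : GL chevE8.Idx K) =
    xG hp8.inList (r1 a b) ((s1 a b : K) * c) := (exists_p1 K).choose_spec a b hab c

theorem coe_p2_tv {a b : Fin 5} (hab : a ≠ b) (c : K) : (p2 K (SpecialLinearGroup.transvection hab c) : GL chevE8.Idx K) =
    xG hp8.inList (r2 a b) c := (exists_p2 K).choose_spec a b hab c

theorem p1_tv {a b : Fin 5} (hab : a ≠ b) (c : K) : p1 K (SpecialLinearGroup.transvection hab c) =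
    xc hp8 (vec chevE8 8 (r1 a b)) ((s1 a b : K) * c) := by
  apply Subtype.ext
  rw [coe_p1_tv, coe_xc hp8 (tab1.1 a b hab)]

theorem p2_tv {a b : Fin 5} (hab : a ≠ b) (c : K) : p2 K (SpecialLinearGroup.transvection hab c) =
    xc hp8 (vec chevE8 8 (r2 a b)) c := by
  apply Subtype.ext
  rw [coe_p2_tv, coe_xc hp8 (tab2.1 a b hab)]

/-- homomorphisms from `SL_n` are determined by the transvections -/
theorem hom_ext {n : ℕ} {Y : Type*} [Group Y] {f g : SpecialLinearGroup (Fin n) K →* Y}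
    (h : ∀ a b (hab : a ≠ b) c, f (SpecialLinearGroup.transvection hab c) = g (SpecialLinearGroup.transvection hab c)) :
    f = g := by
  apply MonoidHom.eq_of_eqOn_dense (Cfsg.Agent.LieClassical.SLGen.closure_transvections (ι := Fin n) (F := K))
  rintro _ ⟨a, b, hab, c, rfl⟩
  exact h a b hab c

/-- **The two images commute.** -/
theorem comm (A B : SpecialLinearGroup (Fin 5) K) : Commute (p1 K A) (p2 K B) := by
  have key : ∀ (f : SpecialLinearGroup (Fin 5) K →* ↥(chevE8.group K)) (y : ↥(chevE8.group K)),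
      (∀ a b (hab : a ≠ b) c, Commute (f (SpecialLinearGroup.transvection hab c)) y) → ∀ A, Commute (f A) y := by
    intro f y h A
    have h1 : (⊤ : Subgroup (SpecialLinearGroup (Fin 5) K)) ≤ (Subgroup.centralizer {y}).comap f := by
      rw [← Cfsg.Agent.LieClassical.SLGen.closure_transvections, Subgroup.closure_le]
      rintro _ ⟨a, b, hab, c, rfl⟩
      change f _ ∈ Subgroup.centralizer {y}
      rw [Subgroup.mem_centralizer_singleton_iff]
      exact (h a b hab c).eq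
    have h2 := h1 (Subgroup.mem_top A)
    rw [Subgroup.mem_comap, Subgroup.mem_centralizer_singleton_iff] at h2
    exact h2
  refine key _ _ (fun a b hab c => (key _ _ (fun a' b' hab' d => ?_) B).symm) A
  apply Commute.symm
  apply Subtype.ext
  show (p1 K _ : GL chevE8.Idx K) * (p2 K _ : GL chevE8.Idx K) = (p2 K _ : GL chevE8.Idx K) * (p1 K _ : GL chevE8.Idx K)
  rw [coe_p1_tv, coe_p2_tv]
  obtain ⟨h1, h2, h3⟩ := tab12 a b hab a' b' hab'
  exact Cfsg.Agent.TitsThree.KExcBase.comm_nil hp8.inList (tab1.1 a b hab) (tab2.1 a' b' hab') h1 h2 h3 _ _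

theorem comm_eq (A B : SpecialLinearGroup (Fin 5) K) : p1 K A * p2 K B = p2 K B * p1 K A := (comm A B).eq

end Hom

/-! ### Field maps -/

section Emb

variable {F K : Type u} [Field F] [Field K] (f : F →+* K)

theorem map_tv {n : ℕ} {a b : Fin n} (hab : a ≠ b) (c : F) :
    SpecialLinearGroup.map f (SpecialLinearGroup.transvection hab c) = SpecialLinearGroup.transvection hab (f c) := by
  apply Subtype.ext
  ext i j
  rw [SpecialLinearGroup.map_apply_coe]
  simp only [RingHom.mapMatrix_apply, Matrix.map_apply, SpecialLinearGroup.transvection, Matrix.transvection, Matrix.add_apply,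
    Matrix.one_apply, Matrix.single_apply, map_add]
  congr 1
  · split_ifs <;> simp
  · split_ifs <;> simp

theorem emb_p1 (A : SpecialLinearGroup (Fin 5) F) : emb hp8.inList f (p1 F A) = p1 K (SpecialLinearGroup.map f A) := by
  have h : (emb hp8.inList f).comp (p1 F) = (p1 K).comp (SpecialLinearGroup.map f) := by
    refine hom_ext fun a b hab c => ?_
    rw [MonoidHom.comp_apply, MonoidHom.comp_apply, map_tv, p1_tv, p1_tv, emb_xc, map_mul, map_intCast]
  exact DFunLike.congr_fun h A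

theorem emb_p2 (A : SpecialLinearGroup (Fin 5) F) : emb hp8.inList f (p2 F A) = p2 K (SpecialLinearGroup.map f A) := by
  have h : (emb hp8.inList f).comp (p2 F) = (p2 K).comp (SpecialLinearGroup.map f) := by
    refine hom_ext fun a b hab c => ?_
    rw [MonoidHom.comp_apply, MonoidHom.comp_apply, map_tv, p2_tv, p2_tv, emb_xc]
  exact DFunLike.congr_fun h A

end Emb

section Frob

variable {k : Type u} [Field k] (r : ℕ) [Fact r.Prime] [CharP k r] [PerfectRing k r] (m : ℕ)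

theorem phi_eq_emb (g : ↥(chevE8.group k)) : phi chevE8 k r m g = emb hp8.inList (iterateFrobenius k r m) g := by
  apply Subtype.ext
  apply Units.ext
  rw [phi_coe, coe_emb, coe_glMap]
  rfl

theorem phi_p1 (A : SpecialLinearGroup (Fin 5) k) :
    phi chevE8 k r m (p1 k A) = p1 k (SpecialLinearGroup.map (iterateFrobenius k r m) A) := by
  rw [phi_eq_emb, emb_p1]

theorem phi_p2 (A : SpecialLinearGroup (Fin 5) k) :
    phi chevE8 k r m (p2 k A) = p2 k (SpecialLinearGroup.map (iterateFrobenius k r m) A) := by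
  rw [phi_eq_emb, emb_p2]

end Frob

end Cfsg.Agent.H934.E83
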